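import Groth.Agent.FlatMorDevissage.PureProjective
import Groth.Agent.FlatMorDevissage.PureLocal
import Groth.Agent.FlatMorPureDescend.Setup
import Groth.Agent.EGA43.FlatOpen

/-!
# Tools for pure spreadouts
-/

set_option autoImplicit false
set_option backward.isDefEq.respectTransparency false

universe u

open TensorProduct Function IsLocalRing

namespace Groth.Agent.FlatMorSpreadout

open Groth.Agent Groth.Agent.FlatMorDevissage

attribute [local instance] Algebra.TensorProduct.rightAlgebra

/-- A finitely presented module over a localisation descends to a finitely presented module. -/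
theorem exists_fp_descend {B : Type u} [CommRing B] (T : Submonoid B) (N : Type u) [AddCommGroup N]
    [Module (Localization T) N] [Module B N] [IsScalarTower B (Localization T) N]
    [Module.FinitePresentation (Localization T) N] :
    ∃ (N₀ : Type u) (_ : AddCommGroup N₀) (_ : Module B N₀) (f : N₀ →ₗ[B] N),
      Module.FinitePresentation B N₀ ∧ IsLocalizedModule T f := by
  classical
  let S := Localization T
  obtain ⟨k, K, eM, hK⟩ := Module.FinitePresentation.exists_fin S N
  let π : (Fin k → B) →ₗ[B] (Fin k → S) :=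
    LinearMap.pi fun j => Algebra.linearMap B S ∘ₗ LinearMap.proj j
  have : IsLocalizedModule T (Algebra.linearMap B S) := isLocalizedModule_iff_isLocalization.2 inferInstance
  have hπ : IsLocalizedModule T π := inferInstanceAs
    (IsLocalizedModule T (LinearMap.pi fun j : Fin k => Algebra.linearMap B S ∘ₗ LinearMap.proj j))
  obtain ⟨s, hs⟩ := hK
  choose wt hwt using fun w : s => IsLocalizedModule.surj T π w.1
  let K₀ : Submodule B (Fin k → B) := Submodule.span B (Set.range fun w : s => (wt w).1)
  have hloc : K₀.localized' S T π = K := by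
    rw [Submodule.localized'_span, ← hs]
    refine le_antisymm (Submodule.span_le.2 ?_) (Submodule.span_le.2 fun w hw => ?_)
    · rintro _ ⟨_, ⟨w, rfl⟩, rfl⟩
      rw [← hwt w]
      show ((wt w).2 : B) • (w.1) ∈ _
      rw [← algebraMap_smul S]
      exact Submodule.smul_mem _ _ (Submodule.subset_span w.2)
    · obtain ⟨v, hv⟩ := IsLocalization.map_units S (wt ⟨w, hw⟩).2
      have he : w = (↑v⁻¹ : S) • π (wt ⟨w, hw⟩).1 := by
        rw [← hwt ⟨w, hw⟩]
        show w = _ • (((wt ⟨w, hw⟩).2 : B) • w)
        rw [← algebraMap_smul S ((wt ⟨w, hw⟩).2 : B) w, smul_smul, ← hv, Units.inv_mul, one_smul]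
      rw [SetLike.mem_coe, he]
      exact Submodule.smul_mem _ _ (Submodule.subset_span ⟨_, ⟨⟨w, hw⟩, rfl⟩, rfl⟩)
  let e₁ : ((Fin k → S) ⧸ K₀.localized' S T π) ≃ₗ[S] N := (Submodule.quotEquivOfEq _ _ hloc).trans eM.symm
  refine ⟨(Fin k → B) ⧸ K₀, inferInstance, inferInstance,
    (e₁.restrictScalars B).toLinearMap ∘ₗ K₀.toLocalizedQuotient' S T π, ?_,
    IsLocalizedModule.of_linearEquiv T (K₀.toLocalizedQuotient' S T π) (e₁.restrictScalars B)⟩
  exact Module.finitePresentation_of_surjective K₀.mkQ K₀.mkQ_surjective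
    (by rw [Submodule.ker_mkQ]; exact Submodule.fg_span (Set.finite_range _))

set_option maxHeartbeats 800000 in
/-- For a projective module over a local base whose associated points of the closed fibre avoid `T`,
the localisation map at `T` is universally injective. -/
theorem univInj_of_localized {A C M M' : Type u} [CommRing A] [IsLocalRing A] [CommRing C] [Algebra A C]
    [Algebra.FiniteType A C] [AddCommGroup M] [Module C M] [Module A M] [IsScalarTower A C M]
    [Module.Finite C M] [Module.Projective A M] (T : Submonoid C) [AddCommGroup M'] [Module C M']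
    [Module A M'] [IsScalarTower A C M'] (g : M →ₗ[C] M') [IsLocalizedModule T g]
    (hT : ∀ (q : Ideal C) [q.IsPrime], q.LiesOver (maximalIdeal A) →
      FlatCA.fiberIdeal (maximalIdeal A) q ∈
        associatedPrimes ((maximalIdeal A).Fiber C) (FlatCA.fiberMod (maximalIdeal A) C M) →
      ∀ t ∈ T, t ∉ q) :
    FlatCA.UnivInj A (g.restrictScalars A) := by
  intro Q _ _
  rw [LinearMap.lTensor_inj_iff_rTensor_inj, injective_iff_map_eq_zero]
  intro z hz
  have : IsLocalizedModule T (AlgebraTensorModule.rTensor A Q g) :=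
    inferInstanceAs (IsLocalizedModule T (AlgebraTensorModule.rTensor A Q g))
  obtain ⟨t, ht⟩ := (IsLocalizedModule.eq_zero_iff T (AlgebraTensorModule.rTensor A Q g)).1
    (show AlgebraTensorModule.rTensor A Q g z = 0 from hz)
  by_contra hz0
  have hne : CAlgH3.annEl C z ≠ ⊤ := fun h => hz0 ((CAlgH3.annEl_eq_top (R := C)).1 h)
  obtain ⟨m, hm, hle⟩ := Ideal.exists_le_maximal _ hne
  obtain ⟨P, hP, -⟩ := Ideal.exists_minimalPrimes_le hle
  have := hP.1.1
  have : P.LiesOver (P.comap (algebraMap A C)) := ⟨rfl⟩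
  have hass := fiberIdeal_mem_of_minimal z P hP (P.comap (algebraMap A C)) (flatAt_of_flat M P)
  let t' := P.comap (algebraMap A C)
  have ht' : t' ≤ maximalIdeal A := IsLocalRing.le_maximalIdeal (Ideal.IsPrime.ne_top inferInstance)
  have : Module.Projective A (A ⊗[A] M) := Module.Projective.of_equiv (TensorProduct.lid A M).symm
  obtain ⟨W, hW, hPW, hWm⟩ := exists_specialization_of_local (L := A) (N := M) t' (maximalIdeal A)
    (by rw [Algebra.algebraMap_self, Ideal.comap_id]) ht' P hass
  obtain ⟨q, hq, hPq, -, hqm, hqass⟩ := exists_assFibre_specialization (maximalIdeal A) t' P hass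
    ⟨W, hW⟩ hWm.over.symm hPW (flatAt_of_flat M W)
  refine hT q hqm hqass t t.2 (hPq (hP.1.2 ?_))
  exact CAlgH3.mem_annEl.2 ht

/-- Base change from a point of a Noetherian ring is projective. -/
theorem projective_of_residueField {R₀ A₁ M₀ : Type u} [CommRing R₀] [CommRing A₁] [Algebra R₀ A₁]
    [AddCommGroup M₀] [Module R₀ M₀] (p₀ : Ideal R₀) [p₀.IsPrime]
    (h₁ : p₀ ≤ RingHom.ker (algebraMap R₀ A₁)) (h₂ : ∀ r ∉ p₀, IsUnit (algebraMap R₀ A₁ r)) :
    Module.Projective A₁ (A₁ ⊗[R₀] M₀) := by
  let φ : p₀.ResidueField →+* A₁ := Ideal.ResidueField.lift p₀ (algebraMap R₀ A₁) h₁ fun r hr => h₂ r hr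
  let _ : Algebra p₀.ResidueField A₁ := φ.toAlgebra
  have : IsScalarTower R₀ p₀.ResidueField A₁ := .of_algebraMap_eq fun r => by
    show _ = φ (algebraMap R₀ p₀.ResidueField r)
    rw [Ideal.ResidueField.lift_algebraMap]
  exact Module.Projective.of_equiv
    (AlgebraTensorModule.cancelBaseChange R₀ p₀.ResidueField A₁ A₁ M₀)

set_option maxHeartbeats 800000 in
/-- Associated points of the fibres of a principal localisation come from those of the fibres. -/
theorem assFibre_comap_away {A B C N₀ N' : Type u} [CommRing A] [CommRing B] [CommRing C] [Algebra A B]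
    [Algebra B C] [Algebra A C] [IsScalarTower A B C] [Algebra.FiniteType A B] [Algebra.FiniteType A C]
    (g : B) [IsLocalization.Away g C]
    [AddCommGroup N₀] [Module B N₀] [Module A N₀] [IsScalarTower A B N₀]
    [AddCommGroup N'] [Module C N'] [Module B N'] [IsScalarTower B C N'] [Module A N'] [IsScalarTower A C N']
    (f : N₀ →ₗ[B] N') (hf : IsBaseChange C f) (p : Ideal A) [p.IsPrime] (q : Ideal C) [q.IsPrime]
    [q.LiesOver p] (hass : FlatCA.fiberIdeal p q ∈ associatedPrimes (p.Fiber C) (FlatCA.fiberMod p C N')) :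
    (q.comap (algebraMap B C)).LiesOver p ∧ g ∉ q.comap (algebraMap B C) ∧
      FlatCA.fiberIdeal p (q.comap (algebraMap B C)) ∈
        associatedPrimes (p.Fiber B) (FlatCA.fiberMod p B N₀) := by
  have hover : (q.comap (algebraMap B C)).LiesOver p := ⟨by
    rw [Ideal.under_def, Ideal.comap_comap, ← IsScalarTower.algebraMap_eq]
    exact ‹q.LiesOver p›.over⟩
  have hgq : g ∉ q.comap (algebraMap B C) := fun h =>
    ‹q.IsPrime›.ne_top (Ideal.eq_top_of_isUnit_mem _ h (IsLocalization.Away.algebraMap_isUnit g))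
  refine ⟨hover, hgq, ?_⟩
  have hloc : IsLocalizedModule (Submonoid.powers g) f :=
    (isLocalizedModule_iff_isBaseChange (Submonoid.powers g) C f).2 hf
  obtain ⟨n', hn'⟩ := exists_annEl_of_assFibre p q hass
  obtain ⟨⟨n, ⟨_, j, rfl⟩⟩, hn⟩ := IsLocalizedModule.surj (Submonoid.powers g) f n'
  replace hn : algebraMap B C (g ^ j) • n' = f n := by
    rw [algebraMap_smul]
    exact hn
  have hu : IsUnit (algebraMap B C (g ^ j)) := by
    rw [map_pow]
    exact (IsLocalization.Away.algebraMap_isUnit g).pow j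
  have hmem : ∀ b : B, b ∈ q.comap (algebraMap B C) ↔ FlatCA.toFiberMod p C N' (f (b • n)) = 0 := fun b => by
    rw [map_smul, ← algebraMap_smul C b (f n), ← hn, smul_smul, mul_comm, ← smul_smul, map_smul,
      hu.smul_eq_zero, map_smul, ← CAlgH3.mem_annEl, hn']
    rfl
  have hsmul : ∀ x ∈ p.map (algebraMap A C) • (⊤ : Submodule C N'),
      ∃ k : ℕ, ∃ m ∈ p.map (algebraMap A B) • (⊤ : Submodule B N₀), g ^ k • x = f m := by
    intro x hx
    refine Submodule.smul_induction_on hx (fun c hc y _ => ?_) ?_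
    · clear hx
      rw [IsScalarTower.algebraMap_eq A B C, ← Ideal.map_map] at hc
      obtain ⟨⟨b, ⟨_, i, rfl⟩⟩, hb⟩ := (IsLocalization.mem_map_algebraMap_iff (Submonoid.powers g) C).1 hc
      obtain ⟨⟨m, ⟨_, l, rfl⟩⟩, hm⟩ := IsLocalizedModule.surj (Submonoid.powers g) f y
      refine ⟨i + l, (b : B) • m, Submodule.smul_mem_smul b.2 trivial, ?_⟩
      rw [map_smul, ← hm, Submonoid.smul_def, ← algebraMap_smul C (g ^ (i + l)), smul_smul,
        ← algebraMap_smul C (g ^ l) y, ← algebraMap_smul C (b : B), smul_smul, ← hb, pow_add, map_mul]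
      congr 1
      ring
    · rintro x y ⟨k, m, hm, hx⟩ ⟨k', m', hm', hy⟩
      refine ⟨k + k', g ^ k' • m + g ^ k • m',
        add_mem (Submodule.smul_mem _ _ hm) (Submodule.smul_mem _ _ hm'), ?_⟩
      rw [map_add, map_smul, map_smul, ← hx, ← hy, smul_add, smul_smul, smul_smul, pow_add, mul_comm]
  obtain ⟨P, hP, hPp, hPass, hwP, hPq⟩ := exists_assFibre_prime p (FlatCA.toFiberMod p B N₀ n)
    (q.comap (algebraMap B C)) fun b hb => by
      have h0 := CAlgH3.mem_annEl.1 hb
      rw [← map_smul] at h0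
      obtain ⟨r, hr, hrn⟩ := (CAlgH3.FiberMod.toFiberMod_eq_zero_iff N₀ p _).1 h0
      refine (hmem b).2 ((CAlgH3.FiberMod.toFiberMod_eq_zero_iff N' p _).2 ⟨r, hr, ?_⟩)
      have h1 := Submodule.mem_map_of_mem (f := f) hrn
      rw [map_smul] at h1
      rw [IsScalarTower.algebraMap_apply A B C, algebraMap_smul]
      refine (Submodule.map_smul'' _ _ f).le h1 |> fun h2 => ?_
      refine Submodule.smul_induction_on h2 (fun a ha y _ => ?_) fun _ _ => add_mem
      rw [← algebraMap_smul C a y, IsScalarTower.algebraMap_eq A B C, ← Ideal.map_map]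
      exact Submodule.smul_mem_smul (Ideal.mem_map_of_mem _ ha) trivial
  have hqP : q.comap (algebraMap B C) ≤ P := fun b hb => by
    obtain ⟨r, hr, hrn⟩ := (CAlgH3.FiberMod.toFiberMod_eq_zero_iff N' p _).1 ((hmem b).1 hb)
    obtain ⟨k, m, hm, hkm⟩ := hsmul _ hrn
    rw [IsScalarTower.algebraMap_apply A B C, algebraMap_smul, ← map_smul, ← map_smul] at hkm
    obtain ⟨⟨_, l, rfl⟩, hl⟩ := (IsLocalizedModule.eq_iff_exists (Submonoid.powers g) f).1 hkm
    have h2 : FlatCA.toFiberMod p B N₀ ((g ^ l * g ^ k * b) • n) = 0 :=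
      (CAlgH3.FiberMod.toFiberMod_eq_zero_iff N₀ p _).2 ⟨r, hr, by
        have e : algebraMap A B r • (g ^ l * g ^ k * b) • n = g ^ l • g ^ k • algebraMap A B r • b • n := by
          simp only [smul_smul]
          congr 1
          ring
        simp only [Submonoid.smul_def] at hl
        rw [e, hl]
        exact Submodule.smul_mem _ _ hm⟩
    rw [map_smul, ← CAlgH3.mem_annEl] at h2
    rcases hP.mem_or_mem (hwP h2) with h | h
    · rcases hP.mem_or_mem h with h | h <;> exact absurd (hPq (hP.mem_of_pow_mem _ h)) hgq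
    · exact h
  rwa [le_antisymm hqP hPq]

end Groth.Agent.FlatMorSpreadout
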